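import Groth.Prelude.Def_CechEdge
import Groth.Agent.SSExist.CechSite
import Groth.Agent.TriH.Delta
import Mathlib.CategoryTheory.Sites.Abelian

/-!
Edge maps from Čech cohomology to sheaf cohomology (`CechEdge.IsEdge`): existence, uniqueness,
injectivity in degree one, bijectivity for acyclic coverings.
-/

set_option autoImplicit false
set_option linter.style.haveILetI false
set_option linter.unusedSectionVars false
set_option backward.isDefEq.respectTransparency false

universe u

open CategoryTheory CategoryTheory.Limits Opposite CategoryTheory.Abelian CechEdge Groth.Agent.SSExist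

namespace Groth.Agent.CechEdgeLib

variable {C : Type u} [SmallCategory C] [HasPullbacks C] {J : GrothendieckTopology C} {U : C}
  {ι : Type u} {Y : ι → Over U}

lemma comp_cechHMap {P Q R : Cᵒᵖ ⥤ AddCommGrpCat.{u}} (a : P ⟶ Q) (b : Q ⟶ R) (p : ℕ)
    (x : CohCx.cechH P Y p) : cechHMap Y (a ≫ b) p x = cechHMap Y b p (cechHMap Y a p x) := by
  show (HomologicalComplex.homologyMap ((cxFunctor Y).map (a ≫ b)) p).hom x = _
  rw [Functor.map_comp, HomologicalComplex.homologyMap_comp]
  rfl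

lemma toCech_eq (P : Cᵒᵖ ⥤ AddCommGrpCat.{u}) (s : P.obj (op U)) :
    toCech Y P s = sieveToHZero Y P (sieveRestr Y P s) := by
  refine congrArg (((cx P Y).homologyπ 0)) (iCycles0_injective Y P ?_)
  refine Eq.trans ?_ (sieveCycle_i Y P _).symm
  refine (ConcreteCategory.congr_hom (toCycles_i P Y) s).trans ?_
  refine cproj_ext Y fun x => ?_
  refine Eq.trans ?_ ((cproj_sieveToCech Y P _ x).trans (FreeAbelianGroup.lift_apply_of _ _)).symm
  exact ConcreteCategory.congr_hom
    (Pi.lift_π (fun i : Fin 1 → ι => P.map (∏ᶜ (Y ∘ i)).hom.op) x) s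

lemma sieveToHZero_bijective (P : Cᵒᵖ ⥤ AddCommGrpCat.{u}) :
    Function.Bijective (sieveToHZero Y P) := by
  haveI := isIso_sieveToHZero Y P
  exact ConcreteCategory.bijective_of_isIso (sieveToHZero Y P)

lemma sieveRestr_of (P : Cᵒᵖ ⥤ AddCommGrpCat.{u}) (s : P.obj (op U)) {V : Cᵒᵖ}
    (k : (famSieve Y).functor.obj V) :
    (sieveRestr Y P s).app V (FreeAbelianGroup.of k) = P.map k.1.op s :=
  FreeAbelianGroup.lift_apply_of _ _

/-- The compatible family of a map out of the sieve. -/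
noncomputable def famOf {P : Cᵒᵖ ⥤ AddCommGrpCat.{u}} (ψ : sieveFree Y ⟶ P) :
    Presieve.FamilyOfElements (P ⋙ forget AddCommGrpCat.{u}) (famSieve Y).arrows :=
  fun _ k hk => ψ.app _ (FreeAbelianGroup.of (⟨k, hk⟩ : (famSieve Y).functor.obj (op _)))

lemma famOf_compatible {P : Cᵒᵖ ⥤ AddCommGrpCat.{u}} (ψ : sieveFree Y ⟶ P) :
    (famOf ψ).Compatible := by
  rw [Presieve.compatible_iff_sieveCompatible]
  intro W W' k g hk
  exact (sieveHom_map ψ g ⟨k, hk⟩ _ rfl).symm

/-- The map out of the sieve of a compatible family. -/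
noncomputable def homOf {P : Cᵒᵖ ⥤ AddCommGrpCat.{u}}
    (x : Presieve.FamilyOfElements (P ⋙ forget AddCommGrpCat.{u}) (famSieve Y).arrows)
    (hx : x.Compatible) : sieveFree Y ⟶ P where
  app V := AddCommGrpCat.ofHom
    (FreeAbelianGroup.lift fun k : (famSieve Y).functor.obj V => (x k.1 k.2 : P.obj V))
  naturality V W g := by
    refine AddCommGrpCat.hom_ext (FreeAbelianGroup.lift_ext _ _ fun k => ?_)
    refine ((congrArg (FreeAbelianGroup.lift fun k : (famSieve Y).functor.obj W => (x k.1 k.2 : P.obj W))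
      (sieveFree_map_of Y (V := V.unop) g.unop k)).trans (FreeAbelianGroup.lift_apply_of _ _)).trans ?_
    refine Eq.trans ?_ (congrArg (P.map g) (FreeAbelianGroup.lift_apply_of
      (fun k : (famSieve Y).functor.obj V => (x k.1 k.2 : P.obj V)) k)).symm
    exact (Presieve.compatible_iff_sieveCompatible x).1 hx k.1 g.unop k.2

lemma homOf_of {P : Cᵒᵖ ⥤ AddCommGrpCat.{u}}
    (x : Presieve.FamilyOfElements (P ⋙ forget AddCommGrpCat.{u}) (famSieve Y).arrows)
    (hx : x.Compatible) {V : C} (k : V ⟶ U) (hk : famSieve Y k) :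
    (homOf x hx).app (op V) (FreeAbelianGroup.of (⟨k, hk⟩ : (famSieve Y).functor.obj (op V))) =
      (x k hk : P.obj (op V)) :=
  FreeAbelianGroup.lift_apply_of _ _

lemma sieveHom_ext {P : Cᵒᵖ ⥤ AddCommGrpCat.{u}} {a b : sieveFree Y ⟶ P}
    (h : ∀ (V : C) (k : V ⟶ U) (hk : famSieve Y k),
      a.app (op V) (FreeAbelianGroup.of (⟨k, hk⟩ : (famSieve Y).functor.obj (op V))) =
        b.app (op V) (FreeAbelianGroup.of (⟨k, hk⟩ : (famSieve Y).functor.obj (op V)))) : a = b :=
  NatTrans.ext (funext fun V => AddCommGrpCat.hom_ext (FreeAbelianGroup.lift_ext _ _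
    fun k => h V.unop k.1 k.2))

/-- Degree zero Čech cohomology detects the sheaf condition. -/
lemma toCech_bijective_iff (P : Cᵒᵖ ⥤ AddCommGrpCat.{u}) :
    Function.Bijective (toCech Y P) ↔
      Presieve.IsSheafFor (P ⋙ forget AddCommGrpCat.{u}) (famSieve Y).arrows := by
  constructor
  · rintro ⟨hinj, hsurj⟩ x hx
    obtain ⟨s, hs⟩ := hsurj (sieveToHZero Y P (homOf x hx))
    rw [toCech_eq] at hs
    have e := (sieveToHZero_bijective (Y := Y) P).1 hs
    refine ⟨s, fun V k hk => ?_, fun t ht => hinj ?_⟩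
    · refine Eq.trans ?_ (homOf_of x hx k hk)
      rw [← e]
      exact (sieveRestr_of P s ⟨k, hk⟩).symm
    · rw [toCech_eq, toCech_eq, e]
      congr 1
      refine sieveHom_ext fun V k hk => ?_
      rw [sieveRestr_of, homOf_of]
      exact ht k hk
  · intro h
    refine ⟨fun s t hst => ?_, fun c => ?_⟩
    · rw [toCech_eq, toCech_eq] at hst
      have e := (sieveToHZero_bijective (Y := Y) P).1 hst
      refine h.isSeparatedFor.ext fun V k hk => ?_
      exact (sieveRestr_of P s ⟨k, hk⟩).symm.trans ((congrArg (fun m : sieveFree Y ⟶ P =>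
        m.app _ (FreeAbelianGroup.of (⟨k, hk⟩ : (famSieve Y).functor.obj (op V)))) e).trans
          (sieveRestr_of P t ⟨k, hk⟩))
    · obtain ⟨ψ, rfl⟩ := (sieveToHZero_bijective (Y := Y) P).2 c
      refine ⟨h.amalgamate (famOf ψ) (famOf_compatible ψ), ?_⟩
      rw [toCech_eq]
      congr 1
      refine sieveHom_ext fun V k hk => ?_
      rw [sieveRestr_of]
      exact h.valid_glue (famOf_compatible ψ) k hk

lemma sheaf_toCech_bijective (hY : famSieve Y ∈ J U) (F : Sheaf J AddCommGrpCat.{u}) :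
    Function.Bijective (toCech Y F.obj) :=
  (toCech_bijective_iff F.obj).2 ((isSheaf_iff_isSheaf_of_type J _).1
    ((Presheaf.isSheaf_iff_isSheaf_forget J _ (forget AddCommGrpCat.{u})).1 F.property) _ hY)

lemma toCech_natural {P Q : Cᵒᵖ ⥤ AddCommGrpCat.{u}} (φ : P ⟶ Q) (s : P.obj (op U)) :
    cechHMap Y φ 0 (toCech Y P s) = toCech Y Q (φ.app (op U) s) := by
  rw [toCech_eq, toCech_eq]
  refine (sieveToHZero_naturality Y φ (sieveRestr Y P s)).trans ?_
  congr 1
  refine sieveHom_ext fun V k hk => ?_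
  refine (congrArg (φ.app (op V)) (sieveRestr_of P s ⟨k, hk⟩)).trans ?_
  rw [sieveRestr_of]
  exact NatTrans.naturality_apply φ k.op s

lemma cechHMap_zero_injective {P Q : Cᵒᵖ ⥤ AddCommGrpCat.{u}} (φ : P ⟶ Q) [Mono φ] :
    Function.Injective (cechHMap Y φ 0) := by
  intro a b h
  obtain ⟨α, rfl⟩ := (sieveToHZero_bijective (Y := Y) P).2 a
  obtain ⟨β, rfl⟩ := (sieveToHZero_bijective (Y := Y) P).2 b
  have e : sieveToHZero Y Q (α ≫ φ) = sieveToHZero Y Q (β ≫ φ) :=
    (sieveToHZero_naturality Y φ α).symm.trans (h.trans (sieveToHZero_naturality Y φ β))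
  rw [(cancel_mono φ).1 ((sieveToHZero_bijective (Y := Y) Q).1 e)]

lemma cx_shortExact {S : ShortComplex (Cᵒᵖ ⥤ AddCommGrpCat.{u})} (hS : S.ShortExact) :
    (S.map (cxFunctor Y)).ShortExact :=
  (isEffaceable_cechF Y).exact S hS

lemma delta_surjective {S : ShortComplex (Cᵒᵖ ⥤ AddCommGrpCat.{u})}
    (hC : (S.map (cxFunctor Y)).ShortExact) (p : ℕ) (h : IsZero (CohCx.cechH S.X₂ Y (p + 1))) :
    Function.Surjective (hC.δ p (p + 1) rfl).hom := by
  rw [← AddCommGrpCat.epi_iff_surjective]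
  exact (hC.homology_exact₁ p (p + 1) rfl).epi_f (h.eq_of_tgt _ _)

instance isIso_shfMap_toSheafify (P : Cᵒᵖ ⥤ AddCommGrpCat.{u}) :
    IsIso (shfMap J (toSheafify J P)) := by
  haveI : IsIso ((sheafificationAdjunction J AddCommGrpCat.{u}).counit.app (shf J P)) := inferInstance
  exact IsIso.of_isIso_fac_right ((sheafificationAdjunction J AddCommGrpCat.{u}).left_triangle_components P)

lemma shfMap_toSheafify_counit (P : Cᵒᵖ ⥤ AddCommGrpCat.{u}) :
    shfMap J (toSheafify J P) ≫ (sheafificationAdjunction J AddCommGrpCat.{u}).counit.app (shf J P) =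
      𝟙 (shf J P) :=
  (sheafificationAdjunction J AddCommGrpCat.{u}).left_triangle_components P

lemma toSheafify_counit (F : Sheaf J AddCommGrpCat.{u}) :
    toSheafify J F.obj ≫ ((sheafificationAdjunction J AddCommGrpCat.{u}).counit.app F).hom = 𝟙 _ :=
  (sheafificationAdjunction J AddCommGrpCat.{u}).right_triangle_components F

lemma HUmap_eq {F G : Sheaf J AddCommGrpCat.{u}} (ψ : F ⟶ G) (p : ℕ)
    (x : Ext.{u} (CohCx.freeSheaf J U) F p) :
    HUmap ψ p U x = x.comp (Ext.mk₀ ψ) (add_zero p) :=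
  rfl

lemma HUmap_comp {F G H : Sheaf J AddCommGrpCat.{u}} (a : F ⟶ G) (b : G ⟶ H) (p : ℕ)
    (x : CohSite.HU F p U) : HUmap (a ≫ b) p U x = HUmap b p U (HUmap a p U x) := by
  let x' : Ext.{u} (CohCx.freeSheaf J U) F p := x
  show x'.comp (Ext.mk₀ (a ≫ b)) (add_zero p) =
    (x'.comp (Ext.mk₀ a) (add_zero p)).comp (Ext.mk₀ b) (add_zero p)
  rw [Ext.comp_assoc_of_second_deg_zero, Ext.mk₀_comp_mk₀]

lemma HUmap_id {F : Sheaf J AddCommGrpCat.{u}} (p : ℕ) (x : CohSite.HU F p U) :
    HUmap (𝟙 F) p U x = x :=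
  Ext.comp_mk₀_id (x : Ext.{u} (CohCx.freeSheaf J U) F p)

lemma HUmap_injective_of_isIso {F G : Sheaf J AddCommGrpCat.{u}} (ψ : F ⟶ G) [IsIso ψ] (p : ℕ) :
    Function.Injective (HUmap ψ p U) := fun a b h => by
  have := congrArg (HUmap (inv ψ) p U) h
  rwa [← HUmap_comp, ← HUmap_comp, IsIso.hom_inv_id, HUmap_id, HUmap_id] at this

lemma sectH0_natural {F G : Sheaf J AddCommGrpCat.{u}} (ψ : F ⟶ G) (s : F.obj.obj (op U)) :
    HUmap ψ 0 U (sectH0 J U F s) = sectH0 J U G (ψ.hom.app (op U) s) := by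
  show (Ext.mk₀ ((CohFree.homEquivSect J U F).symm s)).comp (Ext.mk₀ ψ) (add_zero 0) =
    Ext.mk₀ ((CohFree.homEquivSect J U G).symm (ψ.hom.app (op U) s))
  rw [Ext.mk₀_comp_mk₀]
  congr 1
  apply (CohFree.homEquivSect J U G).injective
  rw [AddEquiv.apply_symm_apply]
  exact congrArg (ψ.hom.app (op U))
    ((CohFree.homEquivSect J U F).apply_symm_apply s)

/-! ### Uniqueness -/

/-- Uniqueness in a general form: only the axioms are used. -/
theorem edge_ext {κ : Type u} {Z : κ → Over U}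
    (e : ∀ (P : Cᵒᵖ ⥤ AddCommGrpCat.{u}) (p : ℕ), CohCx.cechH P Z p →+ CohSite.HU (shf J P) p U)
    (e' : ∀ (P : Cᵒᵖ ⥤ AddCommGrpCat.{u}) (p : ℕ), CohCx.cechH P Z p →+ CohSite.HU (shf J P) p U)
    (he : IsEdge J Z e) (he' : IsEdge J Z e') (P : Cᵒᵖ ⥤ AddCommGrpCat.{u}) (p : ℕ)
    (x : CohCx.cechH P Z p) : e P p x = e' P p x := by
  induction p generalizing P with
  | zero =>
    apply HUmap_injective_of_isIso (shfMap J (toSheafify J P)) 0
    obtain ⟨t, ht⟩ := (sheaf_toCech_bijective (Y := Z) he.cover (shf J P)).2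
      (cechHMap Z (toSheafify J P) 0 x)
    refine (he.natural _ _ (toSheafify J P) 0 x).symm.trans (Eq.trans ?_ (he'.natural _ _ _ 0 x))
    rw [← ht]
    exact (he.zero _ t).trans (he'.zero _ t).symm
  | succ p ih =>
    let S : ShortComplex (Cᵒᵖ ⥤ AddCommGrpCat.{u}) :=
      ShortComplex.mk (toCofree P) (cokernel.π (toCofree P)) (cokernel.condition _)
    have hS : S.ShortExact := { exact := ShortComplex.exact_of_g_is_cokernel _ (cokernelIsCokernel _) }
    have hC := cx_shortExact (Y := Z) hS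
    obtain ⟨q, rfl⟩ := delta_surjective hC p
      (((cechF Z).obj (cofree P)).exactAt_iff_isZero_homology (p + 1) |>.1
        (exactAt_cechF_cofree Z P p)) x
    refine (he.delta S hS hC p q).trans (Eq.trans ?_ (he'.delta S hS hC p q).symm)
    rw [ih S.X₃ q]

/-! ### Existence -/

variable (J U) in
/-- Sheafified cohomology over `U` as a functor of presheaves. -/
noncomputable abbrev HFun (p : ℕ) : (Cᵒᵖ ⥤ AddCommGrpCat.{u}) ⥤ AddCommGrpCat.{u} :=
  presheafToSheaf J AddCommGrpCat.{u} ⋙ Sheaf.cohomologyPresheafFunctor J p ⋙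
    (evaluation Cᵒᵖ AddCommGrpCat.{u}).obj (op U)

variable (J U) in
/-- Sheafified cohomology over `U` as a delta-functor on presheaves. -/
noncomputable def shDelta : DeltaF.CohDeltaFunctor (Cᵒᵖ ⥤ AddCommGrpCat.{u}) AddCommGrpCat.{u} ℕ where
  F p := HFun J U p
  additive p := ⟨fun {P Q} f g => by
    refine AddCommGrpCat.ext fun (x : Ext.{u} (CohCx.freeSheaf J U) (shf J P) p) => ?_
    show x.comp (Ext.mk₀ (shfMap J (f + g))) (add_zero p) =
      x.comp (Ext.mk₀ (shfMap J f)) (add_zero p) + x.comp (Ext.mk₀ (shfMap J g)) (add_zero p)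
    rw [shfMap, Functor.map_add, Ext.mk₀_add, Ext.comp_add]⟩
  δ S hS n₀ n₁ h := AddCommGrpCat.ofHom
    ((hS.map_of_exact (presheafToSheaf J AddCommGrpCat.{u})).extClass.postcomp (CohCx.freeSheaf J U) h)
  δ_natural {S S'} hS hS' φ n₀ n₁ h := by
    refine AddCommGrpCat.ext fun (x : Ext.{u} (CohCx.freeSheaf J U) (shf J S.X₃) n₀) => ?_
    show (x.comp (Ext.mk₀ (shfMap J φ.τ₃)) (add_zero n₀)).comp _ h = (x.comp _ h).comp _ (add_zero n₁)
    rw [Ext.comp_assoc_of_second_deg_zero, Ext.comp_assoc_of_third_deg_zero]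
    exact congrArg (fun t => x.comp t h) (ShortComplex.ShortExact.extClass_naturality
      (hS.map_of_exact (presheafToSheaf J AddCommGrpCat.{u}))
      (hS'.map_of_exact (presheafToSheaf J AddCommGrpCat.{u}))
      ((presheafToSheaf J AddCommGrpCat.{u}).mapShortComplex.map φ)).symm
  exact₂ S hS n := Ext.covariant_sequence_exact₂' (CohCx.freeSheaf J U)
    (hS.map_of_exact (presheafToSheaf J AddCommGrpCat.{u})) n
  comp_δ S hS n₀ n₁ h := by
    refine AddCommGrpCat.ext fun (x : Ext.{u} (CohCx.freeSheaf J U) (shf J S.X₂) n₀) => ?_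
    show (x.comp (Ext.mk₀ (shfMap J S.g)) (add_zero n₀)).comp _ h = 0
    rw [Ext.comp_assoc_of_second_deg_zero]
    exact (congrArg (fun t => x.comp t h)
      (hS.map_of_exact (presheafToSheaf J AddCommGrpCat.{u})).comp_extClass).trans (Ext.comp_zero _ _ _ _ _)
  exact₃ S hS n₀ n₁ h := Ext.covariant_sequence_exact₃' (CohCx.freeSheaf J U)
    (hS.map_of_exact (presheafToSheaf J AddCommGrpCat.{u})) n₀ n₁ h
  δ_comp S hS n₀ n₁ h := by
    refine AddCommGrpCat.ext fun (x : Ext.{u} (CohCx.freeSheaf J U) (shf J S.X₃) n₀) => ?_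
    show (x.comp _ h).comp (Ext.mk₀ (shfMap J S.f)) (add_zero n₁) = 0
    rw [Ext.comp_assoc_of_third_deg_zero]
    exact (congrArg (fun t => x.comp t h)
      (hS.map_of_exact (presheafToSheaf J AddCommGrpCat.{u})).extClass_comp).trans (Ext.comp_zero _ _ _ _ _)
  exact₁ S hS n₀ n₁ h := Ext.covariant_sequence_exact₁' (CohCx.freeSheaf J U)
    (hS.map_of_exact (presheafToSheaf J AddCommGrpCat.{u})) n₀ n₁ h

variable (Y) in
/-- Čech cohomology as a delta-functor on presheaves. -/
noncomputable def cDelta : DeltaF.CohDeltaFunctor (Cᵒᵖ ⥤ AddCommGrpCat.{u}) AddCommGrpCat.{u} ℕ where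
  F n := cxFunctor Y ⋙ HomologicalComplex.homologyFunctor AddCommGrpCat.{u} (ComplexShape.up ℕ) n
  additive n := inferInstanceAs
    ((cechF Y ⋙ HomologicalComplex.homologyFunctor AddCommGrpCat.{u} (ComplexShape.up ℕ) n).Additive)
  δ S hS n₀ n₁ h := (cx_shortExact (Y := Y) hS).δ n₀ n₁ h
  δ_natural {S S'} hS hS' φ n₀ n₁ h :=
    (HomologicalComplex.HomologySequence.δ_naturality ((cxFunctor Y).mapShortComplex.map φ)
      (cx_shortExact hS) (cx_shortExact hS') n₀ n₁ h).symm
  exact₂ S hS n := (cx_shortExact (Y := Y) hS).homology_exact₂ n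
  comp_δ S hS n₀ n₁ h := (cx_shortExact (Y := Y) hS).comp_δ n₀ n₁ h
  exact₃ S hS n₀ n₁ h := (cx_shortExact (Y := Y) hS).homology_exact₃ n₀ n₁ h
  δ_comp S hS n₀ n₁ h := (cx_shortExact (Y := Y) hS).δ_comp n₀ n₁ h
  exact₁ S hS n₀ n₁ h := (cx_shortExact (Y := Y) hS).homology_exact₁ n₀ n₁ h

variable (Y) in
lemma cDelta_isEffaceable : (cDelta Y).IsEffaceable := fun n P =>
  ⟨cofree P, toCofree P, inferInstance,
    (((cechF Y).obj (cofree P)).exactAt_iff_isZero_homology (n + 1) |>.1
      (exactAt_cechF_cofree Y P n)).eq_of_tgt _ _⟩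

/-- Existence of edge maps. -/
theorem exists_edge (hY : famSieve Y ∈ J U) :
    ∃ e : ∀ (P : Cᵒᵖ ⥤ AddCommGrpCat.{u}) (p : ℕ), CohCx.cechH P Y p →+ CohSite.HU (shf J P) p U,
      IsEdge J Y e := by
  choose inv hinv using fun (F : Sheaf J AddCommGrpCat.{u}) => (sheaf_toCech_bijective hY F).2
  have hinv' : ∀ (F : Sheaf J AddCommGrpCat.{u}) (s : F.obj.obj (op U)),
      inv F (toCech Y F.obj s) = s :=
    fun F s => (sheaf_toCech_bijective hY F).1 (hinv F _)
  let t : (cDelta Y).F 0 ⟶ (shDelta J U).F 0 :=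
    { app := fun P => AddCommGrpCat.ofHom (AddMonoidHom.mk'
        (fun x : CohCx.cechH P Y 0 =>
          sectH0 J U (shf J P) (inv (shf J P) (cechHMap Y (toSheafify J P) 0 x)))
        (fun a b => by
          refine Eq.trans (congrArg _ ?_) (map_add (sectH0 J U (shf J P)) _ _)
          apply (sheaf_toCech_bijective hY (shf J P)).1
          rw [map_add (toCech Y (shf J P).obj), hinv, hinv, hinv]
          exact map_add (cechHMap Y (toSheafify J P) 0) a b))
      naturality := fun P Q φ => by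
        refine AddCommGrpCat.ext fun (x : CohCx.cechH P Y 0) => ?_
        show sectH0 J U (shf J Q) (inv (shf J Q) (cechHMap Y (toSheafify J Q) 0 (cechHMap Y φ 0 x))) =
          HUmap (shfMap J φ) 0 U (sectH0 J U (shf J P) (inv (shf J P) (cechHMap Y (toSheafify J P) 0 x)))
        rw [sectH0_natural]
        congr 1
        apply (sheaf_toCech_bijective hY (shf J Q)).1
        rw [hinv, ← toCech_natural, hinv, ← comp_cechHMap, ← comp_cechHMap]
        exact congrArg (fun m => cechHMap Y m 0 x) (toSheafify_naturality J φ) }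
  obtain ⟨τ, hτ, -⟩ := TriH.Delta.isUniversal_of_isEffaceable (cDelta Y) (cDelta_isEffaceable Y)
    (shDelta J U) t
  refine ⟨fun P p => ((τ.app p).app P).hom, ?_⟩
  refine { cover := hY, zero := fun P s => ?_, natural := ?_, delta := ?_ }
  · show (τ.app 0).app P (toCech Y P s) = _
    rw [hτ]
    show sectH0 J U (shf J P) (inv (shf J P) (cechHMap Y (toSheafify J P) 0 (toCech Y P s))) = _
    rw [toCech_natural, hinv']
  · intro P Q φ p x
    exact ConcreteCategory.congr_hom ((τ.app p).naturality φ) x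
  · intro S hS hC p x
    exact ConcreteCategory.congr_hom (τ.comm S hS p (p + 1) rfl) x

/-! ### The maps for sheaves -/

variable {e : ∀ (P : Cᵒᵖ ⥤ AddCommGrpCat.{u}) (p : ℕ), CohCx.cechH P Y p →+ CohSite.HU (shf J P) p U}

lemma edgeSh_natural (he : IsEdge J Y e) {F G : Sheaf J AddCommGrpCat.{u}} (ψ : F ⟶ G) (p : ℕ)
    (x : CohCx.cechH F.obj Y p) :
    edgeSh e G p (cechHMap Y ψ.hom p x) = HUmap ψ p U (edgeSh e F p x) := by
  show HUmap _ p U (e G.obj p (cechHMap Y ψ.hom p x)) = HUmap ψ p U (HUmap _ p U (e F.obj p x))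
  rw [he.natural, ← HUmap_comp, ← HUmap_comp]
  exact congrArg (fun m => HUmap m p U (e F.obj p x))
    ((sheafificationAdjunction J AddCommGrpCat.{u}).counit.naturality ψ)

lemma edgeSh_zero (he : IsEdge J Y e) (F : Sheaf J AddCommGrpCat.{u}) (s : F.obj.obj (op U)) :
    edgeSh e F 0 (toCech Y F.obj s) = sectH0 J U F s := by
  show HUmap _ 0 U (e F.obj 0 (toCech Y F.obj s)) = _
  rw [he.zero, sectH0_natural]
  exact congrArg (sectH0 J U F) (ConcreteCategory.congr_hom (NatTrans.congr_app (toSheafify_counit F) (op U)) s)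

lemma edgeSh_zero_bijective (he : IsEdge J Y e) (F : Sheaf J AddCommGrpCat.{u}) :
    Function.Bijective (edgeSh e F 0) := by
  refine (Function.Bijective.of_comp_iff _ (sheaf_toCech_bijective he.cover F)).1 ?_
  rw [show (edgeSh e F 0) ∘ (toCech Y F.obj) = sectH0 J U F from funext (edgeSh_zero he F)]
  exact (sectH0 J U F).bijective

/-- Dimension shifting data: the presheaf cokernel inside a short exact sequence of sheaves. -/
lemma edgeSh_delta (he : IsEdge J Y e) {T : ShortComplex (Sheaf J AddCommGrpCat.{u})} (hT : T.ShortExact) :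
    ∃ (Q : Cᵒᵖ ⥤ AddCommGrpCat.{u}) (g : T.X₂.obj ⟶ Q) (w : T.f.hom ≫ g = 0)
      (hS : (ShortComplex.mk T.f.hom g w).ShortExact) (m : Q ⟶ T.X₃.obj), Mono m ∧
      (∀ V : C, Function.Surjective (T.g.hom.app (op V)) →
        Function.Surjective (m.app (op V))) ∧
      (∀ s : T.X₂.obj.obj (op U), ∃ q : CohCx.cechH Q Y 0,
        cechHMap Y m 0 q = toCech Y T.X₃.obj (T.g.hom.app (op U) s) ∧
          ((cx_shortExact (Y := Y) hS).δ 0 1 rfl).hom q = 0) ∧
      ∀ (p : ℕ) (q : CohCx.cechH Q Y p),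
        edgeSh e T.X₁ (p + 1) (((cx_shortExact (Y := Y) hS).δ p (p + 1) rfl).hom q) =
          extδ hT U p (edgeSh e T.X₃ p (cechHMap Y m p q)) := by
  haveI := hT.mono_f
  haveI : Mono T.f.hom := (sheafToPresheaf J AddCommGrpCat.{u}).map_mono T.f
  let S : ShortComplex (Cᵒᵖ ⥤ AddCommGrpCat.{u}) :=
    ShortComplex.mk T.f.hom (cokernel.π T.f.hom) (cokernel.condition _)
  have hS : S.ShortExact := { exact := ShortComplex.exact_of_g_is_cokernel _ (cokernelIsCokernel _) }
  let m : S.X₃ ⟶ T.X₃.obj := cokernel.desc T.f.hom T.g.hom (congrArg (·.hom) T.zero)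
  have hm : cokernel.π T.f.hom ≫ m = T.g.hom := cokernel.π_desc _ _ _
  have hex := hT.exact.map_of_mono_of_preservesKernel (sheafToPresheaf J AddCommGrpCat.{u}) hT.mono_f
    inferInstance
  have hmono : Mono m := hex.mono_cokernelDesc
  refine ⟨_, cokernel.π T.f.hom, cokernel.condition _, hS, m, hmono, ?_, ?_, ?_⟩
  · intro V h t
    obtain ⟨s, rfl⟩ := h t
    exact ⟨(cokernel.π T.f.hom).app (op V) s, ConcreteCategory.congr_hom (NatTrans.congr_app hm (op V)) s⟩
  · intro s
    refine ⟨cechHMap Y S.g 0 (toCech Y S.X₂ s), ?_, ?_⟩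
    · rw [← comp_cechHMap, hm, toCech_natural]
    · exact ConcreteCategory.congr_hom ((cx_shortExact (Y := Y) hS).comp_δ 0 1 rfl) (toCech Y S.X₂ s)
  · intro p q
    let φ : S.map (presheafToSheaf J AddCommGrpCat.{u}) ⟶ T :=
      { τ₁ := (sheafificationAdjunction J AddCommGrpCat.{u}).counit.app T.X₁
        τ₂ := (sheafificationAdjunction J AddCommGrpCat.{u}).counit.app T.X₂
        τ₃ := shfMap J m ≫ (sheafificationAdjunction J AddCommGrpCat.{u}).counit.app T.X₃
        comm₁₂ := ((sheafificationAdjunction J AddCommGrpCat.{u}).counit.naturality T.f).symm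
        comm₂₃ := by
          refine ((sheafificationAdjunction J AddCommGrpCat.{u}).counit.naturality T.g).symm.trans ?_
          show shfMap J T.g.hom ≫ _ = shfMap J (cokernel.π T.f.hom) ≫ shfMap J m ≫ _
          rw [← Category.assoc, shfMap, shfMap, shfMap, ← Functor.map_comp, hm] }
    show HUmap φ.τ₁ (p + 1) U (e S.X₁ (p + 1) (((cx_shortExact (Y := Y) hS).δ p (p + 1) rfl).hom q)) =
      extδ hT U p (HUmap _ p U (e T.X₃.obj p (cechHMap Y m p q)))
    rw [he.delta S hS (cx_shortExact (Y := Y) hS) p q, he.natural, ← HUmap_comp]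
    let z : Ext.{u} (CohCx.freeSheaf J U) (shf J S.X₃) p := e S.X₃ p q
    let hS' := hS.map_of_exact (presheafToSheaf J AddCommGrpCat.{u})
    show (z.comp hS'.extClass rfl).comp (Ext.mk₀ φ.τ₁) (add_zero (p + 1)) =
      (z.comp (Ext.mk₀ φ.τ₃) (add_zero p)).comp hT.extClass rfl
    rw [Ext.comp_assoc_of_third_deg_zero, Ext.comp_assoc_of_second_deg_zero,
      ShortComplex.ShortExact.extClass_naturality hS' hT φ]

lemma exists_injective_seq (F : Sheaf J AddCommGrpCat.{u}) :
    ∃ T : ShortComplex (Sheaf J AddCommGrpCat.{u}), T.ShortExact ∧ T.X₁ = F ∧ Injective T.X₂ :=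
  exists_injSES F

lemma isZero_cech_of_injective_sheaf {I : Sheaf J AddCommGrpCat.{u}} (hI : Injective I)
    {P : Cᵒᵖ ⥤ AddCommGrpCat.{u}} (h : P = I.obj) (n : ℕ) : IsZero (CohCx.cechH P Y (n + 1)) := by
  subst h
  haveI := hI
  exact isZero_cechH_injective Y I n

theorem edgeSh_one_injective (he : IsEdge J Y e) (F : Sheaf J AddCommGrpCat.{u}) :
    Function.Injective (edgeSh e F 1) := by
  obtain ⟨T, hT, rfl, hI⟩ := exists_injective_seq F
  rw [injective_iff_map_eq_zero]
  intro x hx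
  obtain ⟨Q, g, w, hS, m, hm, -, hker, hδ⟩ := edgeSh_delta he hT
  obtain ⟨q, rfl⟩ := delta_surjective (cx_shortExact (Y := Y) hS) 0
    (isZero_cech_of_injective_sheaf hI (rfl : T.X₂.obj = _) 0) x
  obtain ⟨t, ht⟩ := (sheaf_toCech_bijective he.cover T.X₃).2 (cechHMap Y m 0 q)
  have h0 := (hδ 0 q).symm.trans hx
  rw [← ht, edgeSh_zero he] at h0
  obtain ⟨y, hy⟩ := Ext.covariant_sequence_exact₃ (CohCx.freeSheaf J U) hT (sectH0 J U T.X₃ t) rfl h0
  obtain ⟨s, hs⟩ := (sectH0 J U T.X₂).surjective y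
  have hts : t = T.g.hom.app (op U) s := by
    apply (sectH0 J U T.X₃).injective
    rw [← sectH0_natural, hs]
    exact hy.symm
  obtain ⟨q', hq', hq0⟩ := hker s
  have e' : q = q' := by
    haveI := hm
    exact cechHMap_zero_injective m (ht.symm.trans ((congrArg (toCech Y T.X₃.obj) hts).trans hq'.symm))
  rw [e']
  exact hq0

lemma cechHMap_bijective_of_prod {P Q : Cᵒᵖ ⥤ AddCommGrpCat.{u}} (m : P ⟶ Q) [Mono m]
    (h : ∀ (n : ℕ) (x : Fin (n + 1) → ι), Function.Surjective (m.app (op (prodObj Y x).left))) (p : ℕ) :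
    Function.Bijective (cechHMap Y m p) := by
  haveI : ∀ n, IsIso (((cxFunctor Y).map m).f n) := fun n => by
    rw [ConcreteCategory.isIso_iff_bijective]
    have hinj : ∀ V, Function.Injective (m.app V) := fun V =>
      (AddCommGrpCat.mono_iff_injective _).1 (inferInstanceAs (Mono (m.app V)))
    refine ⟨fun a b hab => cproj_ext Y fun x => hinj _ ?_, fun c => ?_⟩
    · exact (cechF_map_cproj Y m n x a).symm.trans
        ((congrArg (cproj Y Q n x) hab).trans (cechF_map_cproj Y m n x b))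
    · choose v hv using fun x : Fin (n + 1) → ι => h n x (cproj Y Q n x c)
      exact ⟨cmk Y P n v, cproj_ext Y fun x =>
        (cechF_map_cproj Y m n x _).trans ((congrArg _ (cproj_cmk Y P n v x)).trans (hv x))⟩
  haveI : IsIso ((cxFunctor Y).map m) := HomologicalComplex.Hom.isIso_of_components _
  exact ConcreteCategory.bijective_of_isIso (HomologicalComplex.homologyMap ((cxFunctor Y).map m) p)

theorem edgeSh_bijective (he : IsEdge J Y e) (F : Sheaf J AddCommGrpCat.{u})
    (h : ∀ (p : ℕ) (a : Fin (p + 1) → ι) (q : ℕ),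
      Subsingleton (CohSite.HU F (q + 1) (∏ᶜ fun k => Y (a k)).left))
    (p : ℕ) : Function.Bijective (edgeSh e F p) := by
  induction p generalizing F with
  | zero => exact edgeSh_zero_bijective he F
  | succ p ih =>
    obtain ⟨T, hT, rfl, hI⟩ := exists_injective_seq F
    haveI := hI
    have hsur : ∀ (n : ℕ) (x : Fin (n + 1) → ι),
        Function.Surjective (T.g.hom.app (op (prodObj Y x).left)) := by
      intro n x t
      let W := (prodObj Y x).left
      haveI : Subsingleton (Ext.{u} (CohCx.freeSheaf J W) T.X₁ 1) := h n x 0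
      obtain ⟨y, hy⟩ := Ext.covariant_sequence_exact₃ (CohCx.freeSheaf J W) hT (sectH0 J W T.X₃ t) rfl
        (Subsingleton.elim _ _)
      obtain ⟨s, hs⟩ := (sectH0 J W T.X₂).surjective y
      refine ⟨s, (sectH0 J W T.X₃).injective ?_⟩
      rw [← sectH0_natural, hs]
      exact hy
    have hG : ∀ (n : ℕ) (a : Fin (n + 1) → ι) (q : ℕ),
        Subsingleton (CohSite.HU T.X₃ (q + 1) (∏ᶜ fun k => Y (a k)).left) := by
      intro n a q
      refine subsingleton_of_forall_eq 0 fun z => ?_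
      haveI : Subsingleton (Ext.{u} (CohCx.freeSheaf J (∏ᶜ fun k => Y (a k)).left) T.X₁ (q + 1 + 1)) :=
        h n a (q + 1)
      let z' : Ext.{u} (CohCx.freeSheaf J (∏ᶜ fun k => Y (a k)).left) T.X₃ (q + 1) := z
      obtain ⟨w, hw⟩ := Ext.covariant_sequence_exact₃ (CohCx.freeSheaf J (∏ᶜ fun k => Y (a k)).left) hT
        z' rfl (Subsingleton.elim _ _)
      refine hw.symm.trans ?_
      rw [Ext.eq_zero_of_injective w]
      exact Ext.zero_comp _ _ _ _ _
    obtain ⟨Q, g, w, hS, m, hm, hmsur, -, hδ⟩ := edgeSh_delta he hT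
    have hC := cx_shortExact (Y := Y) hS
    haveI := hm
    have hmb := cechHMap_bijective_of_prod (Y := Y) m (fun n x => hmsur _ (hsur n x))
    refine ⟨?_, fun z => ?_⟩
    · rw [injective_iff_map_eq_zero]
      intro x hx
      cases p with
      | zero => exact edgeSh_one_injective he T.X₁ (hx.trans (map_zero _).symm)
      | succ p =>
        obtain ⟨q, rfl⟩ := delta_surjective hC (p + 1) (isZero_cech_of_injective_sheaf hI (rfl : T.X₂.obj = _) (p + 1)) x
        have h0 := (hδ (p + 1) q).symm.trans hx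
        obtain ⟨y, hy⟩ := Ext.covariant_sequence_exact₃ (CohCx.freeSheaf J U) hT
          (edgeSh e T.X₃ (p + 1) (cechHMap Y m (p + 1) q)) rfl h0
        have hz : edgeSh e T.X₃ (p + 1) (cechHMap Y m (p + 1) q) = 0 := by
          refine hy.symm.trans ?_
          rw [Ext.eq_zero_of_injective y]
          exact Ext.zero_comp _ _ _ _ _
        have hq : q = 0 := (hmb (p + 1)).1
          (((ih T.X₃ hG).1 (hz.trans (map_zero _).symm)).trans (map_zero _).symm)
        rw [hq, map_zero]
    · obtain ⟨y, hy⟩ := Ext.covariant_sequence_exact₁ (CohCx.freeSheaf J U) hT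
        (z : Ext.{u} (CohCx.freeSheaf J U) T.X₁ (p + 1)) (Ext.eq_zero_of_injective _) rfl
      obtain ⟨w', hw'⟩ := (ih T.X₃ hG).2 y
      obtain ⟨q, rfl⟩ := (hmb p).2 w'
      refine ⟨(hC.δ p (p + 1) rfl).hom q, (hδ p q).trans ?_⟩
      rw [hw']
      exact hy

/-! ### Refinement -/

/-- Refinement followed by an edge family is an edge family. -/
theorem isEdge_comp_refine {κ : Type u} {Y' : κ → Over U} (f : FormalCoproduct.mk ι Y ⟶ FormalCoproduct.mk κ Y')
    (he : IsEdge J Y e) (hY' : famSieve Y' ∈ J U) :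
    IsEdge J Y' fun P p => (e P p).comp (HomologicalComplex.homologyMap (CohCx.cechRefine P f) p).hom := by
  let ν : cxFunctor Y' ⟶ cxFunctor (C := C) Y :=
    Functor.whiskerLeft ((Functor.whiskeringLeft (Over U)ᵒᵖ Cᵒᵖ AddCommGrpCat.{u}).obj (Over.forget U).op)
      ({ app := fun Q => (AlgebraicTopology.alternatingCofaceMapComplex AddCommGrpCat.{u}).map
          (((Functor.whiskeringLeft _ _ _).map (NatTrans.rightOp (FormalCoproduct.cechFunctor.map f))).app
            ((FormalCoproduct.evalOp.{u} (Over U) AddCommGrpCat.{u}).obj Q))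
         naturality := fun Q R φ => by
          refine ((AlgebraicTopology.alternatingCofaceMapComplex AddCommGrpCat.{u}).map_comp _ _).symm.trans
            (Eq.trans (congrArg _ ?_) ((AlgebraicTopology.alternatingCofaceMapComplex AddCommGrpCat.{u}).map_comp _ _))
          exact ((Functor.whiskeringLeft _ _ _).map (NatTrans.rightOp (FormalCoproduct.cechFunctor.map f))).naturality
            ((FormalCoproduct.evalOp.{u} (Over U) AddCommGrpCat.{u}).map φ) } :
        cechComplexFunctor Y' ⟶ cechComplexFunctor Y)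
  refine { cover := hY', zero := fun P s => ?_, natural := ?_, delta := ?_ }
  · refine (congrArg (e P 0) ?_).trans (he.zero P s)
    show (HomologicalComplex.homologyMap (CohCx.cechRefine P f) 0).hom
      ((cx P Y').homologyπ 0 (toCycles P Y' s)) = (cx P Y).homologyπ 0 (toCycles P Y s)
    refine (ConcreteCategory.congr_hom
      (HomologicalComplex.homologyπ_naturality (CohCx.cechRefine P f) 0) _).trans ?_
    refine congrArg ((cx P Y).homologyπ 0) (iCycles0_injective Y P ?_)
    refine (ConcreteCategory.congr_hom (HomologicalComplex.cyclesMap_i (CohCx.cechRefine P f) 0) _).trans ?_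
    refine (congrArg ((CohCx.cechRefine P f).f 0) (ConcreteCategory.congr_hom (toCycles_i P Y') s)).trans ?_
    refine Eq.trans ?_ (ConcreteCategory.congr_hom (toCycles_i P Y) s).symm
    refine cproj_ext Y fun x => ?_
    refine Eq.trans ?_ (ConcreteCategory.congr_hom
      (Pi.lift_π (fun i : Fin 1 → ι => P.map (∏ᶜ (Y ∘ i)).hom.op) x) s).symm
    let F₀ := (FormalCoproduct.cechFunctor.map f).app (op (SimplexCategory.mk 0))
    have h1 : (CohCx.cechRefine P f).f 0 ≫
        Pi.π (fun x : Fin 1 → ι => P.obj (op (prodObj Y x).left)) x =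
        Pi.π (fun x : Fin 1 → κ => P.obj (op (prodObj Y' x).left)) (F₀.f x) ≫
          P.map (F₀.φ x).left.op :=
      Pi.lift_π _ x
    refine (ConcreteCategory.congr_hom h1 _).trans ?_
    refine (congrArg (P.map (F₀.φ x).left.op) (ConcreteCategory.congr_hom
      (Pi.lift_π (fun i : Fin 1 → κ => P.map (∏ᶜ (Y' ∘ i)).hom.op) (F₀.f x)) s)).trans ?_
    refine (ConcreteCategory.congr_hom (P.map_comp _ _) s).symm.trans ?_
    exact congrArg (fun k : (prodObj Y x).left ⟶ U => P.map k.op s) (Over.w (F₀.φ x))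
  · intro P Q φ p x
    refine Eq.trans (congrArg (e Q p) ?_) (he.natural P Q φ p _)
    have h : (cxFunctor Y').map φ ≫ CohCx.cechRefine Q f =
        CohCx.cechRefine P f ≫ (cxFunctor Y).map φ := ν.naturality φ
    have h' := congrArg (fun m => HomologicalComplex.homologyMap m p) h
    simp only [HomologicalComplex.homologyMap_comp] at h'
    exact ConcreteCategory.congr_hom h' x
  · intro S hS hC' p x
    refine (congrArg (e S.X₁ (p + 1)) ?_).trans (he.delta S hS (cx_shortExact hS) p _)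
    exact ConcreteCategory.congr_hom (HomologicalComplex.HomologySequence.δ_naturality
      (S.mapNatTrans ν) hC' (cx_shortExact hS) p (p + 1) rfl) x

end Groth.Agent.CechEdgeLib
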