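import Groth.Agent.CechEdgeLib.Edge

/-!
# Edge maps for acyclic coverings
-/

set_option autoImplicit false
set_option linter.style.haveILetI false

open CategoryTheory CategoryTheory.Limits Opposite CategoryTheory.Abelian

namespace Groth.Agent.CechEdgeLib

universe u

variable {C : Type u} [SmallCategory C] [HasPullbacks C] {U : C} {ι : Type u} {Y : ι → Over U}
  {J : GrothendieckTopology C}

/-- Vanishing of cohomology on all fibre products of the family. -/
def ProdAcyclic (Y : ι → Over U) (F : Sheaf J AddCommGrpCat.{u}) : Prop :=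
  ∀ (p : ℕ) (a : Fin (p + 1) → ι) (q : ℕ), Subsingleton (Ext.{u} (SSExist.freeAb J (SSExist.prodObj Y a).left) F (q + 1))

/-- A sheaf as the associated sheaf of itself. -/
noncomputable def shfIso (F : Sheaf J AddCommGrpCat.{u}) : CechEdge.shf J F.obj ≅ F :=
  haveI : IsIso (sheafificationAdjunction J AddCommGrpCat.{u}).counit := inferInstance
  (asIso (sheafificationAdjunction J AddCommGrpCat.{u}).counit).app F

lemma toSheafify_bijective (F : Sheaf J AddCommGrpCat.{u}) (V : Cᵒᵖ) :
    Function.Bijective ((toSheafify J F.obj).app V) :=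
  haveI := isIso_toSheafify J F.property
  (ConcreteCategory.isIso_iff_bijective _).1 inferInstance

lemma ext_bijective_of_iso {A : Type (u + 1)} [Category.{u} A] [Abelian A] [HasExt.{u} A] (X : A) {F G : A}
    (f : F ⟶ G) [IsIso f] (n : ℕ) : Function.Bijective ((extFunctorObj.{u} X n).map f) :=
  (ConcreteCategory.isIso_iff_bijective _).1 inferInstance

lemma subsingleton_ext_shf {X : Sheaf J AddCommGrpCat.{u}} {F : Sheaf J AddCommGrpCat.{u}} {n : ℕ}
    (h : Subsingleton (Ext.{u} X F n)) : Subsingleton (Ext.{u} X (CechEdge.shf J F.obj) n) :=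
  @Function.Injective.subsingleton _ _ _ (ext_bijective_of_iso X (shfIso F).hom n).1 h

lemma subsingleton_ext_shf_injective (X I : Sheaf J AddCommGrpCat.{u}) [Injective I] (n : ℕ) :
    Subsingleton (Ext.{u} X (CechEdge.shf J I.obj) (n + 1)) :=
  haveI : Injective (CechEdge.shf J I.obj) := Injective.of_iso (shfIso I).symm inferInstance
  subsingleton_of_forall_eq 0 Ext.eq_zero_of_injective

section Presheaf

variable {S : ShortComplex (Sheaf J AddCommGrpCat.{u})}

/-- The sequence of presheaves with cokernel presheaf. -/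
noncomputable abbrev preSES (S : ShortComplex (Sheaf J AddCommGrpCat.{u})) : ShortComplex (Cᵒᵖ ⥤ AddCommGrpCat.{u}) :=
  TriH.Delta.monoSES S.f.hom

lemma preSES_shortExact (hS : S.ShortExact) : (preSES S).ShortExact := by
  haveI := hS.mono_f
  haveI : Mono S.f.hom := (sheafToPresheaf J AddCommGrpCat.{u}).map_mono S.f
  exact TriH.Delta.monoSES_shortExact _

lemma toSheafify_naturality_app {P Q : Cᵒᵖ ⥤ AddCommGrpCat.{u}} (φ : P ⟶ Q) (V : Cᵒᵖ) (s : P.obj V) :
    (toSheafify J Q).app V (φ.app V s) = (CechEdge.shfMap J φ).hom.app V ((toSheafify J P).app V s) :=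
  ConcreteCategory.congr_hom (NatTrans.congr_app
    ((sheafificationAdjunction J AddCommGrpCat.{u}).unit.naturality φ) V) s

lemma exists_preimage_π (S : ShortComplex (Sheaf J AddCommGrpCat.{u})) (V : Cᵒᵖ) (t : (preSES S).X₃.obj V) :
    ∃ s, (preSES S).g.app V s = t := by
  haveI : Epi ((preSES S).g.app V) :=
    inferInstanceAs (Epi (((evaluation Cᵒᵖ AddCommGrpCat.{u}).obj V).map (cokernel.π S.f.hom)))
  exact (AddCommGrpCat.epi_iff_surjective _).1 inferInstance t

lemma toSheafify_X₃_injective (hS : S.ShortExact) (V : Cᵒᵖ) :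
    Function.Injective ((toSheafify J (preSES S).X₃).app V) := by
  have hT := preSES_shortExact hS
  have hTs := hT.map_of_exact (presheafToSheaf J AddCommGrpCat.{u})
  rw [injective_iff_map_eq_zero]
  intro t ht
  obtain ⟨s, rfl⟩ := exists_preimage_π S V t
  rw [toSheafify_naturality_app] at ht
  haveI := hTs.mono_f
  obtain ⟨a, ha⟩ := (ShortComplex.ab_exact_iff _).1
    ((hTs.exact.map_of_mono_of_preservesKernel (sheafToPresheaf J AddCommGrpCat.{u}) hTs.mono_f inferInstance).map_of_mono_of_preservesKernel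
      ((evaluation Cᵒᵖ AddCommGrpCat.{u}).obj V) ((sheafToPresheaf J AddCommGrpCat.{u}).map_mono ((preSES S).map (presheafToSheaf J AddCommGrpCat.{u})).f) inferInstance) _ ht
  obtain ⟨a, rfl⟩ := (toSheafify_bijective S.X₁ V).2 a
  obtain rfl : (preSES S).f.app V a = s :=
    (toSheafify_bijective S.X₂ V).1 ((toSheafify_naturality_app (preSES S).f V a).trans ha)
  exact ConcreteCategory.congr_hom (NatTrans.congr_app (preSES S).zero V) a

lemma toSheafify_X₃_surjective (hS : S.ShortExact) (V : C)
    (h : Subsingleton (Ext.{u} (SSExist.freeAb J V) S.X₁ 1)) :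
    Function.Surjective ((toSheafify J (preSES S).X₃).app (op V)) := by
  intro t
  have hTs := (preSES_shortExact hS).map_of_exact (presheafToSheaf J AddCommGrpCat.{u})
  haveI : Subsingleton (Ext.{u} (SSExist.freeAb J V) ((preSES S).map (presheafToSheaf J AddCommGrpCat.{u})).X₁ 1) :=
    subsingleton_ext_shf h
  obtain ⟨φ, rfl⟩ := (SSExist.evalGen_bijective J V _).2 t
  obtain ⟨ψ, rfl⟩ := SSExist.exists_lift_of_subsingleton hTs _ φ
  obtain ⟨s, hs⟩ := (toSheafify_bijective S.X₂ (op V)).2 (SSExist.evalGen J V _ ψ)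
  exact ⟨(preSES S).g.app (op V) s, (toSheafify_naturality_app (preSES S).g (op V) s).trans
    (congrArg ((CechEdge.shfMap J (preSES S).g).hom.app (op V)) hs)⟩

end Presheaf

variable {e : ∀ (P : Cᵒᵖ ⥤ AddCommGrpCat.{u}) (p : ℕ), CohCx.cechH P Y p →+ CohSite.HU (CechEdge.shf J P) p U}

lemma edge_zero_bijective (he : CechEdge.IsEdge J Y e) (F : Sheaf J AddCommGrpCat.{u}) :
    Function.Bijective (e F.obj 0) := by
  refine (Function.Bijective.of_comp_iff _ (toCech_bijective Y he.cover F)).1 ?_
  rw [show (e F.obj 0) ∘ (CechEdge.toCech Y F.obj) =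
    (CechEdge.sectH0 J U (CechEdge.shf J F.obj)) ∘ ((toSheafify J F.obj).app (op U)) from funext (he.zero F.obj)]
  exact (CechEdge.sectH0 J U _).bijective.comp (toSheafify_bijective F (op U))

lemma edge_injective_bijective (he : CechEdge.IsEdge J Y e) (I : Sheaf J AddCommGrpCat.{u}) [Injective I] (p : ℕ) :
    Function.Bijective (e I.obj p) := by
  cases p with
  | zero => exact edge_zero_bijective he I
  | succ p =>
    haveI : Subsingleton (CohCx.cechH I.obj Y (p + 1)) :=
      AddCommGrpCat.subsingleton_of_isZero (SSExist.isZero_cechH_injective Y I p)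
    haveI : Subsingleton (CohSite.HU (CechEdge.shf J I.obj) (p + 1) U) :=
      subsingleton_ext_shf_injective (SSExist.freeAb J U) I p
    exact ⟨fun a b _ => Subsingleton.elim a b, fun c => ⟨0, Subsingleton.elim _ _⟩⟩

variable {S : ShortComplex (Sheaf J AddCommGrpCat.{u})}

lemma edge_succ_injective (he : CechEdge.IsEdge J Y e) (hS : S.ShortExact) [Injective S.X₂] (p : ℕ)
    (h : Function.Injective (e (preSES S).X₃ p)) : Function.Injective (e S.X₁.obj (p + 1)) := by
  have hT := preSES_shortExact hS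
  have hTs := hT.map_of_exact (presheafToSheaf J AddCommGrpCat.{u})
  have hC := (SSExist.isEffaceable_cechF Y).exact _ hT
  rw [injective_iff_map_eq_zero]
  intro x hx
  obtain ⟨y, rfl⟩ := (ShortComplex.ab_exact_iff _).1 (hC.homology_exact₁ p (p + 1) rfl) x
    (ConcreteCategory.congr_hom ((SSExist.isZero_cechH_injective Y S.X₂ p).eq_of_tgt _ 0) x)
  rw [he.delta _ hT hC p y] at hx
  obtain ⟨w, hw⟩ := Ext.covariant_sequence_exact₃ _ hTs _ rfl hx
  obtain ⟨z, rfl⟩ := (edge_injective_bijective he S.X₂ p).2 w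
  obtain rfl : CechEdge.cechHMap Y (preSES S).g p z = y := h ((he.natural _ _ _ p z).trans hw)
  exact ConcreteCategory.congr_hom (hC.comp_δ p (p + 1) rfl) z

lemma edge_succ_surjective (he : CechEdge.IsEdge J Y e) (hS : S.ShortExact) [Injective S.X₂] (p : ℕ)
    (h : Function.Surjective (e (preSES S).X₃ p)) : Function.Surjective (e S.X₁.obj (p + 1)) := by
  have hT := preSES_shortExact hS
  have hTs := hT.map_of_exact (presheafToSheaf J AddCommGrpCat.{u})
  intro w
  obtain ⟨v, hv⟩ := Ext.covariant_sequence_exact₁ _ hTs w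
    (@Subsingleton.elim _ (subsingleton_ext_shf_injective (SSExist.freeAb J U) S.X₂ p) _ _) (n₀ := p) rfl
  obtain ⟨y, rfl⟩ := h v
  exact ⟨_, (he.delta _ hT ((SSExist.isEffaceable_cechF Y).exact _ hT) p y).trans hv⟩

lemma cechHMap_zero_injective {P Q : Cᵒᵖ ⥤ AddCommGrpCat.{u}} (φ : P ⟶ Q)
    (h : ∀ V, Function.Injective (φ.app V)) : Function.Injective (CechEdge.cechHMap Y φ 0) := by
  intro a b hab
  obtain ⟨ψ, rfl⟩ := (sieveToHZero_bijective Y P).2 a
  obtain ⟨χ, rfl⟩ := (sieveToHZero_bijective Y P).2 b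
  have h1 := (SSExist.sieveToHZero_naturality Y φ ψ).symm.trans (hab.trans (SSExist.sieveToHZero_naturality Y φ χ))
  haveI : ∀ V, Mono (φ.app V) := fun V => (AddCommGrpCat.mono_iff_injective _).2 (h V)
  haveI : Mono φ := NatTrans.mono_of_mono_app φ
  rw [(cancel_mono φ).1 ((sieveToHZero_bijective Y Q).1 h1)]

lemma edge_X₃_zero_injective (he : CechEdge.IsEdge J Y e) (hS : S.ShortExact) :
    Function.Injective (e (preSES S).X₃ 0) := by
  intro a b hab
  refine cechHMap_zero_injective (toSheafify J (preSES S).X₃) (toSheafify_X₃_injective hS) ?_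
  refine (edge_zero_bijective he (CechEdge.shf J (preSES S).X₃)).1 ?_
  exact (he.natural _ _ _ 0 a).trans ((congrArg _ hab).trans (he.natural _ _ _ 0 b).symm)

lemma cechHMap_toSheafify_bijective (hS : S.ShortExact) (hF : ProdAcyclic Y S.X₁) (p : ℕ) :
    Function.Bijective (CechEdge.cechHMap Y (toSheafify J (preSES S).X₃) p) := by
  let η := toSheafify J (preSES S).X₃
  have hb : ∀ (n : ℕ) (x : Fin (n + 1) → ι), Function.Bijective (η.app (op (SSExist.prodObj Y x).left)) := fun n x =>
    ⟨toSheafify_X₃_injective hS _, toSheafify_X₃_surjective hS _ (hF n x 0)⟩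
  haveI : ∀ n, IsIso (((SSExist.cechF Y).map η).f n) := fun n => by
    rw [ConcreteCategory.isIso_iff_bijective]
    constructor
    · intro a b hab
      refine SSExist.cproj_ext Y fun x => (hb n x).1 ?_
      exact (SSExist.cechF_map_cproj Y η n x a).symm.trans
        ((congrArg (SSExist.cproj Y _ n x) hab).trans (SSExist.cechF_map_cproj Y η n x b))
    · intro c
      choose v hv using fun x => (hb n x).2 (SSExist.cproj Y _ n x c)
      exact ⟨SSExist.cmk Y _ n v, SSExist.cproj_ext Y fun x =>
        (SSExist.cechF_map_cproj Y η n x _).trans ((congrArg _ (SSExist.cproj_cmk Y _ n v x)).trans (hv x))⟩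
  haveI : IsIso ((SSExist.cechF Y).map η) := HomologicalComplex.Hom.isIso_of_components _
  exact (ConcreteCategory.isIso_iff_bijective _).1
    (inferInstanceAs (IsIso ((HomologicalComplex.homologyFunctor AddCommGrpCat.{u} (ComplexShape.up ℕ) p).map
      ((SSExist.cechF Y).map η))))

lemma prodAcyclic_shf_X₃ (hS : S.ShortExact) [Injective S.X₂] (hF : ProdAcyclic Y S.X₁) :
    ProdAcyclic Y (CechEdge.shf J (preSES S).X₃) := fun n a q => subsingleton_of_forall_eq 0 fun x => by
  have hTs := (preSES_shortExact hS).map_of_exact (presheafToSheaf J AddCommGrpCat.{u})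
  obtain ⟨w, rfl⟩ := Ext.covariant_sequence_exact₃ _ hTs x rfl
    (@Subsingleton.elim _ (subsingleton_ext_shf (hF n a (q + 1))) _ _)
  exact (congrArg (fun t : Ext _ _ (q + 1) => t.comp (Ext.mk₀ _) (add_zero _))
    (@Subsingleton.elim _ (subsingleton_ext_shf_injective (SSExist.freeAb J (SSExist.prodObj Y a).left) S.X₂ q) w 0)).trans
    (Ext.zero_comp _ _ _ _ _)

/-- Edge maps are bijective for acyclic coverings. -/
theorem edge_bijective (he : CechEdge.IsEdge J Y e) (p : ℕ) (F : Sheaf J AddCommGrpCat.{u})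
    (hF : ProdAcyclic Y F) : Function.Bijective (e F.obj p) := by
  induction p generalizing F with
  | zero => exact edge_zero_bijective he F
  | succ p ih =>
    obtain ⟨S, hS, rfl, hI⟩ := SSExist.exists_injSES F
    haveI := hI
    have hX : Function.Bijective (e (preSES S).X₃ p) := by
      have h1 := (ih _ (prodAcyclic_shf_X₃ hS hF)).comp (cechHMap_toSheafify_bijective hS hF p)
      rw [show (e (CechEdge.shf J (preSES S).X₃).obj p) ∘ (CechEdge.cechHMap Y (toSheafify J (preSES S).X₃) p) =
        (CechEdge.HUmap (CechEdge.shfMap J (toSheafify J (preSES S).X₃)) p U) ∘ (e (preSES S).X₃ p) from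
          funext (he.natural _ _ _ p)] at h1
      refine ⟨h1.1.of_comp, fun w => ?_⟩
      obtain ⟨y, hy⟩ := h1.2 (CechEdge.HUmap (CechEdge.shfMap J (toSheafify J (preSES S).X₃)) p U w)
      exact ⟨y, HUmap_shfMap_toSheafify_injective _ p hy⟩
    exact ⟨edge_succ_injective he hS p hX.1, edge_succ_surjective he hS p hX.2⟩

/-- Edge maps are injective in degree one. -/
theorem edge_one_injective (he : CechEdge.IsEdge J Y e) (F : Sheaf J AddCommGrpCat.{u}) :
    Function.Injective (e F.obj 1) := by
  obtain ⟨S, hS, rfl, hI⟩ := SSExist.exists_injSES F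
  haveI := hI
  exact edge_succ_injective he hS 0 (edge_X₃_zero_injective he hS)

lemma edgeSh_bijective_iff (F : Sheaf J AddCommGrpCat.{u}) (p : ℕ) :
    (Function.Bijective (e F.obj p) → Function.Bijective (CechEdge.edgeSh e F p)) ∧
    (Function.Injective (e F.obj p) → Function.Injective (CechEdge.edgeSh e F p)) := by
  have h : Function.Bijective (CechEdge.HUmap ((sheafificationAdjunction J AddCommGrpCat.{u}).counit.app F) p U) :=
    ext_bijective_of_iso (SSExist.freeAb J U) (shfIso F).hom p
  exact ⟨fun h' => h.comp h', fun h' => h.1.comp h'⟩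

/-- Sheaves are detected by zeroth Čech cohomology. -/
theorem isSheaf_iff_toCech (P : Cᵒᵖ ⥤ AddCommGrpCat.{u}) :
    Presheaf.IsSheaf J P ↔ ∀ (U : C) (κ : Type u) (Z : κ → Over U),
      SSExist.famSieve Z ∈ J U → Function.Bijective (CechEdge.toCech Z P) := by
  constructor
  · exact fun h U κ Z hZ => toCech_bijective Z hZ ⟨P, h⟩
  · intro h
    rw [Presheaf.isSheaf_iff_isSheaf_forget J P (forget AddCommGrpCat.{u}), isSheaf_iff_isSheaf_of_type]
    intro W R hR
    let Z : (Σ V : C, {f : V ⟶ W // R.arrows f}) → Over W := fun q => Over.mk q.2.1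
    have hZ : SSExist.famSieve Z = R := by
      refine le_antisymm ?_ fun V f hf => ⟨_, 𝟙 V, _, ⟨(⟨V, f, hf⟩ : Σ V : C, {f : V ⟶ W // R.arrows f})⟩,
        Category.id_comp _⟩
      rintro V f ⟨_, k, _, ⟨⟨V', f', hf'⟩⟩, rfl⟩
      exact R.downward_closed hf' k
    have := (sieveRestr_bijective_iff Z P).1 ((toCech_bijective_iff Z P).1 (h W _ Z (hZ.symm ▸ hR)))
    rwa [hZ] at this

end Groth.Agent.CechEdgeLib
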