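import Groth.Agent.SSExist.CechPre
import Groth.Agent.TriH.Delta
import Groth.Prelude.Def_CechEdge
import Mathlib.Algebra.Homology.HomologySequenceLemmas

/-!
# Čech cohomology and cohomology of associated sheaves as delta functors on presheaves
-/

set_option autoImplicit false
set_option linter.style.haveILetI false

open CategoryTheory CategoryTheory.Limits Opposite CategoryTheory.Abelian DeltaF

namespace Groth.Agent.CechEdgeLib

universe u

variable {C : Type u} [SmallCategory C] [HasPullbacks C] {U : C} {ι : Type u} (Y : ι → Over U)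

/-- Čech cohomology as a delta functor on presheaves. -/
noncomputable def cechDelta : CohDeltaFunctor (Cᵒᵖ ⥤ AddCommGrpCat.{u}) AddCommGrpCat.{u} ℕ where
  F n := SSExist.cechF Y ⋙ HomologicalComplex.homologyFunctor AddCommGrpCat.{u} (ComplexShape.up ℕ) n
  additive _ := inferInstance
  δ S hS n₀ n₁ h := ((SSExist.isEffaceable_cechF Y).exact S hS).δ n₀ n₁ h
  δ_natural {S S'} hS hS' φ n₀ n₁ h :=
    (HomologicalComplex.HomologySequence.δ_naturality ((SSExist.cechF Y).mapShortComplex.map φ)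
      ((SSExist.isEffaceable_cechF Y).exact S hS) ((SSExist.isEffaceable_cechF Y).exact S' hS') n₀ n₁ h).symm
  exact₂ S hS n := ((SSExist.isEffaceable_cechF Y).exact S hS).homology_exact₂ n
  comp_δ S hS n₀ n₁ h := ((SSExist.isEffaceable_cechF Y).exact S hS).comp_δ n₀ n₁ h
  exact₃ S hS n₀ n₁ h := ((SSExist.isEffaceable_cechF Y).exact S hS).homology_exact₃ n₀ n₁ h
  δ_comp S hS n₀ n₁ h := ((SSExist.isEffaceable_cechF Y).exact S hS).δ_comp n₀ n₁ h
  exact₁ S hS n₀ n₁ h := ((SSExist.isEffaceable_cechF Y).exact S hS).homology_exact₁ n₀ n₁ h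

lemma cechDelta_isEffaceable : (cechDelta Y).IsEffaceable :=
  haveI : IsGrothendieckAbelian.{u} (Cᵒᵖ ⥤ AddCommGrpCat.{u}) :=
    IsGrothendieckAbelian.of_equivalence (sheafBotEquivalence (C := C) AddCommGrpCat.{u})
  TriH.Delta.isEffaceable_of_isZero_injective _ fun n I hI => (SSExist.isEffaceable_cechF Y).injective I hI n

lemma exactZero {A : Type*} [Category A] [HasZeroMorphisms A] {S : ShortComplex A} (_ : S.Exact) : S.f ≫ S.g = 0 :=
  S.zero

variable (J : GrothendieckTopology C) (U)

/-- The degree `n` cohomology of associated sheaves over `U`. -/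
noncomputable abbrev shfH (n : ℕ) : (Cᵒᵖ ⥤ AddCommGrpCat.{u}) ⥤ AddCommGrpCat.{u} :=
  presheafToSheaf J AddCommGrpCat.{u} ⋙ extFunctorObj.{u} (CohCx.freeSheaf J U) n

/-- Cohomology over `U` of associated sheaves as a delta functor on presheaves. -/
noncomputable def shfDelta : CohDeltaFunctor (Cᵒᵖ ⥤ AddCommGrpCat.{u}) AddCommGrpCat.{u} ℕ where
  F n := shfH U J n
  additive n := inferInstance
  δ S hS n₀ n₁ h := AddCommGrpCat.ofHom
    ((hS.map_of_exact (presheafToSheaf J AddCommGrpCat.{u})).extClass.postcomp (CohCx.freeSheaf J U) h)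
  δ_natural {S S'} hS hS' φ n₀ n₁ h := AddCommGrpCat.ext fun x => by
    let P := presheafToSheaf J AddCommGrpCat.{u}
    have hn := (hS.map_of_exact P).extClass_naturality (hS'.map_of_exact P) (P.mapShortComplex.map φ)
    show (x.comp (Ext.mk₀ (P.map φ.τ₃)) (add_zero n₀)).comp (hS'.map_of_exact P).extClass h =
      (x.comp (hS.map_of_exact P).extClass h).comp (Ext.mk₀ (P.map φ.τ₁)) (add_zero n₁)
    rw [Ext.comp_assoc _ _ _ (add_zero n₀) (zero_add 1) (by omega),
      Ext.comp_assoc _ _ _ h (add_zero 1) (by omega)]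
    exact congrArg (fun t => x.comp t h) hn.symm
  exact₂ S hS n := Ext.covariant_sequence_exact₂' _ (hS.map_of_exact _) n
  comp_δ S hS n₀ n₁ h :=
    exactZero (Ext.covariant_sequence_exact₃' (CohCx.freeSheaf J U)
      (hS.map_of_exact (presheafToSheaf J AddCommGrpCat.{u})) n₀ n₁ h)
  exact₃ S hS n₀ n₁ h := Ext.covariant_sequence_exact₃' _ (hS.map_of_exact _) n₀ n₁ h
  δ_comp S hS n₀ n₁ h :=
    exactZero (Ext.covariant_sequence_exact₁' (CohCx.freeSheaf J U)
      (hS.map_of_exact (presheafToSheaf J AddCommGrpCat.{u})) n₀ n₁ h)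
  exact₁ S hS n₀ n₁ h := Ext.covariant_sequence_exact₁' _ (hS.map_of_exact _) n₀ n₁ h

end Groth.Agent.CechEdgeLib
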