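import Groth.Agent.CechEdgeLib.Delta
import Groth.Agent.SSExist.CechSite

/-!
# Edge families: degree zero, existence and uniqueness
-/

set_option autoImplicit false
set_option linter.style.haveILetI false

open CategoryTheory CategoryTheory.Limits Opposite CategoryTheory.Abelian

namespace Groth.Agent.CechEdgeLib

universe u

variable {C : Type u} [SmallCategory C] [HasPullbacks C] {U : C} {ι : Type u} (Y : ι → Over U)
  {J : GrothendieckTopology C}

lemma cproj_toCech₀ (P : Cᵒᵖ ⥤ AddCommGrpCat.{u}) (s : P.obj (op U)) (x : Fin 1 → ι) :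
    SSExist.cproj Y P 0 x (CechEdge.toCech₀ P Y s) = P.map (SSExist.prodObj Y x).hom.op s :=
  ConcreteCategory.congr_hom (Pi.lift_π (fun i : Fin 1 → ι => P.map (∏ᶜ (Y ∘ i)).hom.op) x) s

lemma toCech_eq (P : Cᵒᵖ ⥤ AddCommGrpCat.{u}) (s : P.obj (op U)) :
    CechEdge.toCech Y P s = SSExist.sieveToHZero Y P (SSExist.sieveRestr Y P s) := by
  refine congrArg (((SSExist.cechF Y).obj P).homologyπ 0) (SSExist.iCycles0_injective Y P ?_)
  refine (ConcreteCategory.congr_hom (CechEdge.toCycles_i P Y) s).trans ?_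
  refine Eq.trans ?_ (SSExist.sieveCycle_i Y P _).symm
  refine SSExist.cproj_ext Y fun x => (cproj_toCech₀ Y P s x).trans ?_
  exact ((SSExist.cproj_sieveToCech Y P _ x).trans (FreeAbelianGroup.lift_apply_of _ _)).symm

lemma sieveRestr_comp {P Q : Cᵒᵖ ⥤ AddCommGrpCat.{u}} (α : P ⟶ Q) (s : P.obj (op U)) :
    SSExist.sieveRestr Y P s ≫ α = SSExist.sieveRestr Y Q (α.app (op U) s) := by
  refine NatTrans.ext (funext fun V => AddCommGrpCat.hom_ext (FreeAbelianGroup.lift_ext _ _ fun k => ?_))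
  refine (congrArg (α.app V) (FreeAbelianGroup.lift_apply_of _ k)).trans ?_
  refine (ConcreteCategory.congr_hom (α.naturality k.1.op) s).trans ?_
  exact (FreeAbelianGroup.lift_apply_of (fun k : (SSExist.famSieve Y).functor.obj V =>
    Q.map k.1.op (α.app (op U) s)) k).symm

lemma toCech_natural {P Q : Cᵒᵖ ⥤ AddCommGrpCat.{u}} (α : P ⟶ Q) (s : P.obj (op U)) :
    CechEdge.cechHMap Y α 0 (CechEdge.toCech Y P s) = CechEdge.toCech Y Q (α.app (op U) s) := by
  rw [toCech_eq, toCech_eq, ← sieveRestr_comp]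
  exact SSExist.sieveToHZero_naturality Y α _

lemma sieveToHZero_bijective (P : Cᵒᵖ ⥤ AddCommGrpCat.{u}) : Function.Bijective (SSExist.sieveToHZero Y P) :=
  (ConcreteCategory.isIso_iff_bijective _).1 (SSExist.isIso_sieveToHZero Y P)

lemma toCech_bijective_iff (P : Cᵒᵖ ⥤ AddCommGrpCat.{u}) :
    Function.Bijective (CechEdge.toCech Y P) ↔ Function.Bijective (SSExist.sieveRestr Y P) := by
  rw [show (CechEdge.toCech Y P : _ → _) = SSExist.sieveToHZero Y P ∘ SSExist.sieveRestr Y P from
    funext (toCech_eq Y P)]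
  exact Function.Bijective.of_comp_iff' (sieveToHZero_bijective Y P) _

lemma sieveRestr_bijective_iff (P : Cᵒᵖ ⥤ AddCommGrpCat.{u}) :
    Function.Bijective (SSExist.sieveRestr Y P) ↔
      Presieve.IsSheafFor (P ⋙ forget AddCommGrpCat.{u}) (SSExist.famSieve Y).arrows := by
  have hval : ∀ (s : P.obj (op U)) (V : Cᵒᵖ) (k : (SSExist.famSieve Y).functor.obj V),
      (SSExist.sieveRestr Y P s).app V (FreeAbelianGroup.of k) = P.map k.1.op s := fun s V k =>
    FreeAbelianGroup.lift_apply_of _ k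
  constructor
  · intro h fam hfam
    rw [Presieve.compatible_iff_sieveCompatible] at hfam
    let ψ : SSExist.sieveFree Y ⟶ P :=
      { app := fun V => AddCommGrpCat.ofHom (FreeAbelianGroup.lift fun k => fam k.1 k.2)
        naturality := fun V W g => AddCommGrpCat.hom_ext (FreeAbelianGroup.lift_ext _ _ fun k => by
          refine ((congrArg (FreeAbelianGroup.lift fun k : (SSExist.famSieve Y).functor.obj W => fam k.1 k.2)
            (SSExist.sieveFree_map_of Y (V := V.unop) g.unop k)).trans (FreeAbelianGroup.lift_apply_of _ _)).trans ?_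
          refine Eq.trans ?_ (congrArg (P.map g) (FreeAbelianGroup.lift_apply_of
            (fun k : (SSExist.famSieve Y).functor.obj V => fam k.1 k.2) k)).symm
          exact hfam k.1 g.unop k.2) }
    obtain ⟨s, hs⟩ := h.2 ψ
    refine ⟨s, fun V k hk => ?_, fun t ht => h.1 (Eq.trans ?_ hs.symm)⟩
    · exact (hval s (op V) ⟨k, hk⟩).symm.trans ((ConcreteCategory.congr_hom (NatTrans.congr_app hs (op V)) _).trans
        (FreeAbelianGroup.lift_apply_of _ (⟨k, hk⟩ : (SSExist.famSieve Y).functor.obj (op V))))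
    · refine NatTrans.ext (funext fun V => AddCommGrpCat.hom_ext (FreeAbelianGroup.lift_ext _ _ fun k => ?_))
      exact (hval t V k).trans ((ht k.1 k.2).trans (FreeAbelianGroup.lift_apply_of
        (fun k : (SSExist.famSieve Y).functor.obj V => fam k.1 k.2) k).symm)
  · intro h
    constructor
    · intro s t hst
      refine h.isSeparatedFor.ext fun V k hk => ?_
      exact (hval s (op V) ⟨k, hk⟩).symm.trans
        ((ConcreteCategory.congr_hom (NatTrans.congr_app hst (op V)) _).trans (hval t (op V) ⟨k, hk⟩))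
    · intro ψ
      let fam : Presieve.FamilyOfElements (P ⋙ forget AddCommGrpCat.{u}) (SSExist.famSieve Y).arrows := fun V k hk =>
        ψ.app (op V) (FreeAbelianGroup.of (⟨k, hk⟩ : (SSExist.famSieve Y).functor.obj (op V)))
      have hfam : fam.Compatible := by
        rw [Presieve.compatible_iff_sieveCompatible]
        intro W W' k g hk
        exact (SSExist.sieveHom_map ψ g ⟨k, hk⟩ _ rfl).symm
      refine ⟨h.amalgamate fam hfam,
        NatTrans.ext (funext fun V => AddCommGrpCat.hom_ext (FreeAbelianGroup.lift_ext _ _ fun k => ?_))⟩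
      exact (hval _ V k).trans (h.valid_glue hfam k.1 k.2)

lemma toCech_bijective (hY : SSExist.famSieve Y ∈ J U) (F : Sheaf J AddCommGrpCat.{u}) :
    Function.Bijective (CechEdge.toCech Y F.obj) :=
  (toCech_bijective_iff Y _).2 ((sieveRestr_bijective_iff Y _).2
    ((isSheaf_iff_isSheaf_of_type J _).1
      ((Presheaf.isSheaf_iff_isSheaf_forget J _ (forget AddCommGrpCat.{u})).1 F.property) _ hY))

lemma HUmap_sectH0 {F G : Sheaf J AddCommGrpCat.{u}} (ψ : F ⟶ G) (s : F.obj.obj (op U)) :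
    CechEdge.HUmap ψ 0 U (CechEdge.sectH0 J U F s) = CechEdge.sectH0 J U G (ψ.hom.app (op U) s) := by
  obtain ⟨x, rfl⟩ := (CechEdge.sectH0 J U F).symm.surjective s
  rw [AddEquiv.apply_symm_apply]
  refine (CechEdge.sectH0 J U G).symm.injective (Eq.trans ?_ ((CechEdge.sectH0 J U G).symm_apply_apply _).symm)
  obtain ⟨φ, rfl⟩ := Ext.addEquiv₀.symm.surjective x
  show CohFree.homEquivSect J U G (Ext.addEquiv₀ ((Ext.mk₀ φ).comp (Ext.mk₀ ψ) (add_zero 0))) =
    ψ.hom.app (op U) (CohFree.homEquivSect J U F (Ext.addEquiv₀ (Ext.mk₀ φ)))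
  rw [Ext.mk₀_comp_mk₀]
  simp only [← Ext.addEquiv₀_symm_apply, AddEquiv.apply_symm_apply]
  rfl

/-- Zeroth Čech cohomology of a sheaf as zeroth cohomology. -/
noncomputable def sheafH0 (hY : SSExist.famSieve Y ∈ J U) (F : Sheaf J AddCommGrpCat.{u}) :
    CohCx.cechH F.obj Y 0 ≃+ CohSite.HU F 0 U :=
  (AddEquiv.ofBijective (CechEdge.toCech Y F.obj) (toCech_bijective Y hY F)).symm.trans (CechEdge.sectH0 J U F)

lemma sheafH0_toCech (hY : SSExist.famSieve Y ∈ J U) (F : Sheaf J AddCommGrpCat.{u}) (s : F.obj.obj (op U)) :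
    sheafH0 Y hY F (CechEdge.toCech Y F.obj s) = CechEdge.sectH0 J U F s :=
  congrArg (CechEdge.sectH0 J U F)
    ((AddEquiv.ofBijective (CechEdge.toCech Y F.obj) (toCech_bijective Y hY F)).symm_apply_apply s)

lemma sheafH0_natural (hY : SSExist.famSieve Y ∈ J U) {F G : Sheaf J AddCommGrpCat.{u}} (ψ : F ⟶ G)
    (x : CohCx.cechH F.obj Y 0) :
    sheafH0 Y hY G (CechEdge.cechHMap Y ψ.hom 0 x) = CechEdge.HUmap ψ 0 U (sheafH0 Y hY F x) := by
  obtain ⟨s, rfl⟩ := (toCech_bijective Y hY F).2 x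
  rw [toCech_natural, sheafH0_toCech, sheafH0_toCech, HUmap_sectH0]

lemma cechHMap_comp {P Q R : Cᵒᵖ ⥤ AddCommGrpCat.{u}} (φ : P ⟶ Q) (χ : Q ⟶ R) (p : ℕ) (x : CohCx.cechH P Y p) :
    CechEdge.cechHMap Y (φ ≫ χ) p x = CechEdge.cechHMap Y χ p (CechEdge.cechHMap Y φ p x) :=
  ConcreteCategory.congr_hom ((SSExist.cechF Y ⋙ HomologicalComplex.homologyFunctor AddCommGrpCat.{u}
    (ComplexShape.up ℕ) p).map_comp φ χ) x

variable (J)

/-- The degree zero comparison. -/
noncomputable def edgeZero (hY : SSExist.famSieve Y ∈ J U) :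
    (cechDelta Y).F 0 ⟶ (shfDelta U J).F 0 where
  app P := AddCommGrpCat.ofHom ((sheafH0 Y hY (CechEdge.shf J P)).toAddMonoidHom.comp
    (CechEdge.cechHMap Y (toSheafify J P) 0))
  naturality P Q φ := AddCommGrpCat.hom_ext (AddMonoidHom.ext fun x => by
    show sheafH0 Y hY (CechEdge.shf J Q) (CechEdge.cechHMap Y (toSheafify J Q) 0 (CechEdge.cechHMap Y φ 0 x)) =
      CechEdge.HUmap (CechEdge.shfMap J φ) 0 U (sheafH0 Y hY (CechEdge.shf J P) (CechEdge.cechHMap Y (toSheafify J P) 0 x))
    rw [← sheafH0_natural, ← cechHMap_comp, ← cechHMap_comp]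
    exact congrArg (fun t => sheafH0 Y hY (CechEdge.shf J Q) (CechEdge.cechHMap Y t 0 x))
      ((sheafificationAdjunction J AddCommGrpCat.{u}).unit.naturality φ))

/-- An edge family exists. -/
theorem exists_isEdge (hY : SSExist.famSieve Y ∈ J U) :
    ∃ e : ∀ (P : Cᵒᵖ ⥤ AddCommGrpCat.{u}) (p : ℕ), CohCx.cechH P Y p →+ CohSite.HU (CechEdge.shf J P) p U,
      CechEdge.IsEdge J Y e := by
  obtain ⟨φ, hφ, -⟩ := TriH.Delta.isUniversal_of_isEffaceable _ (cechDelta_isEffaceable Y) (shfDelta U J)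
    (edgeZero Y J hY)
  refine ⟨fun P p => ((φ.app p).app P).hom,
    { cover := hY
      zero := fun P s => ?_
      natural := fun P Q ψ p x => ConcreteCategory.congr_hom ((φ.app p).naturality ψ) x
      delta := fun S hS hC p x => ConcreteCategory.congr_hom (φ.comm S hS p (p + 1) rfl) x }⟩
  refine (ConcreteCategory.congr_hom (NatTrans.congr_app hφ P) _).trans ?_
  exact (congrArg (sheafH0 Y hY (CechEdge.shf J P)) (toCech_natural Y (toSheafify J P) s)).trans
    (sheafH0_toCech Y hY _ _)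

variable {J} {Y}

lemma HUmap_shfMap_toSheafify_injective (P : Cᵒᵖ ⥤ AddCommGrpCat.{u}) (p : ℕ) :
    Function.Injective (CechEdge.HUmap (CechEdge.shfMap J (toSheafify J P)) p U) := by
  have h := (sheafificationAdjunction J AddCommGrpCat.{u}).left_triangle_components P
  refine Function.LeftInverse.injective (g := CechEdge.HUmap
    ((sheafificationAdjunction J AddCommGrpCat.{u}).counit.app (CechEdge.shf J P)) p U) fun x => ?_
  have h1 := ConcreteCategory.congr_hom ((((Sheaf.cohomologyPresheafFunctor J p).flip.obj (op U))).map_comp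
    (CechEdge.shfMap J (toSheafify J P))
    ((sheafificationAdjunction J AddCommGrpCat.{u}).counit.app (CechEdge.shf J P))) x
  refine h1.symm.trans ?_
  exact (ConcreteCategory.congr_hom (congrArg (((Sheaf.cohomologyPresheafFunctor J p).flip.obj (op U))).map h) x).trans
    (ConcreteCategory.congr_hom (((Sheaf.cohomologyPresheafFunctor J p).flip.obj (op U)).map_id _) x)

variable {e e' : ∀ (P : Cᵒᵖ ⥤ AddCommGrpCat.{u}) (p : ℕ), CohCx.cechH P Y p →+ CohSite.HU (CechEdge.shf J P) p U}

lemma edge_zero_eq (he : CechEdge.IsEdge J Y e) (he' : CechEdge.IsEdge J Y e') (P : Cᵒᵖ ⥤ AddCommGrpCat.{u})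
    (x : CohCx.cechH P Y 0) : e P 0 x = e' P 0 x := by
  refine HUmap_shfMap_toSheafify_injective P 0 ?_
  rw [← he.natural, ← he'.natural]
  obtain ⟨s, hs⟩ := (toCech_bijective Y he.cover (CechEdge.shf J P)).2 (CechEdge.cechHMap Y (toSheafify J P) 0 x)
  rw [← hs, he.zero, he'.zero]

/-- The delta morphism of an edge family. -/
noncomputable def edgeHom (he : CechEdge.IsEdge J Y e) : cechDelta Y ⟶ shfDelta U J where
  app p :=
    { app := fun P => AddCommGrpCat.ofHom (e P p)
      naturality := fun P Q φ => AddCommGrpCat.hom_ext (AddMonoidHom.ext fun x => he.natural P Q φ p x) }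
  comm S hS n₀ n₁ h := by
    change n₀ + 1 = n₁ at h
    subst h
    exact AddCommGrpCat.hom_ext (AddMonoidHom.ext fun x =>
      he.delta S hS ((SSExist.isEffaceable_cechF Y).exact S hS) n₀ x)

/-- Edge families are unique. -/
theorem edge_unique (he : CechEdge.IsEdge J Y e) (he' : CechEdge.IsEdge J Y e') : e = e' := by
  obtain ⟨φ, -, huniq⟩ := TriH.Delta.isUniversal_of_isEffaceable _ (cechDelta_isEffaceable Y) (shfDelta U J)
    ((edgeHom he).app 0)
  have h0 : (edgeHom he').app 0 = (edgeHom he).app 0 :=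
    NatTrans.ext (funext fun P => AddCommGrpCat.hom_ext (AddMonoidHom.ext fun x => edge_zero_eq he' he P x))
  have h : edgeHom he = edgeHom he' := (huniq _ rfl).trans (huniq _ h0).symm
  funext P p
  exact congrArg (fun φ : cechDelta Y ⟶ shfDelta U J => ((φ.app p).app P).hom) h

end Groth.Agent.CechEdgeLib
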