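import Groth.Agent.CechEdgeLib.Compare

/-!
# Edge maps and refinement
-/

set_option autoImplicit false
set_option linter.style.haveILetI false

open CategoryTheory CategoryTheory.Limits Opposite

namespace Groth.Agent.CechEdgeLib

universe u

variable {C : Type u} [SmallCategory C] [HasPullbacks C] {U : C} {ι κ : Type u} {Y : ι → Over U} {Y' : κ → Over U}
  {J : GrothendieckTopology C} (f : FormalCoproduct.mk ι Y ⟶ FormalCoproduct.mk κ Y')

/-- Refinement as a natural transformation. -/
noncomputable def refineNT : SSExist.cechF Y' ⟶ SSExist.cechF Y :=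
  Functor.whiskerLeft ((Functor.whiskeringLeft (Over U)ᵒᵖ Cᵒᵖ AddCommGrpCat.{u}).obj (Over.forget U).op)
    (Functor.whiskerRight (Functor.whiskerLeft (FormalCoproduct.evalOp.{u} (Over U) AddCommGrpCat.{u})
        ((Functor.whiskeringLeft _ _ _).map (NatTrans.rightOp (FormalCoproduct.cechFunctor.map f))))
      (AlgebraicTopology.alternatingCofaceMapComplex AddCommGrpCat.{u}))

lemma refineNT_app (P : Cᵒᵖ ⥤ AddCommGrpCat.{u}) : (refineNT f).app P = CohCx.cechRefine P f := rfl

lemma refine_toCech (P : Cᵒᵖ ⥤ AddCommGrpCat.{u}) (s : P.obj (op U)) :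
    HomologicalComplex.homologyMap (CohCx.cechRefine P f) 0 (CechEdge.toCech Y' P s) = CechEdge.toCech Y P s := by
  refine (ConcreteCategory.congr_hom (HomologicalComplex.homologyπ_naturality (CohCx.cechRefine P f) 0) _).trans ?_
  refine congrArg (((SSExist.cechF Y).obj P).homologyπ 0) (SSExist.iCycles0_injective Y P ?_)
  refine (ConcreteCategory.congr_hom (HomologicalComplex.cyclesMap_i (CohCx.cechRefine P f) 0) _).trans ?_
  refine (congrArg ((CohCx.cechRefine P f).f 0)
    (ConcreteCategory.congr_hom (CechEdge.toCycles_i P Y') s)).trans ?_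
  refine Eq.trans ?_ (ConcreteCategory.congr_hom (CechEdge.toCycles_i P Y) s).symm
  refine SSExist.cproj_ext Y fun x => Eq.trans ?_ (cproj_toCech₀ Y P s x).symm
  let g := (FormalCoproduct.cechFunctor.map f).app (op (SimplexCategory.mk 0))
  refine (ConcreteCategory.congr_hom (Pi.lift_π (fun i : Fin 1 → ι =>
    Pi.π (fun y : Fin 1 → κ => P.obj (op (∏ᶜ (Y' ∘ y)).left)) (g.f i) ≫ P.map (g.φ i).left.op) x) _).trans ?_
  refine (congrArg (P.map (g.φ x).left.op) (cproj_toCech₀ Y' P s (g.f x))).trans ?_
  refine (ConcreteCategory.congr_hom (P.map_comp _ _) s).symm.trans ?_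
  exact congrArg (fun k : (SSExist.prodObj Y x).left ⟶ U => P.map k.op s) (Over.w (g.φ x))

variable {e : ∀ (P : Cᵒᵖ ⥤ AddCommGrpCat.{u}) (p : ℕ), CohCx.cechH P Y p →+ CohSite.HU (CechEdge.shf J P) p U}
  {e' : ∀ (P : Cᵒᵖ ⥤ AddCommGrpCat.{u}) (p : ℕ), CohCx.cechH P Y' p →+ CohSite.HU (CechEdge.shf J P) p U}

/-- Edge families commute with refinement. -/
theorem edge_refine (he : CechEdge.IsEdge J Y e) (he' : CechEdge.IsEdge J Y' e') (P : Cᵒᵖ ⥤ AddCommGrpCat.{u})
    (p : ℕ) (x : CohCx.cechH P Y' p) :
    e P p ((HomologicalComplex.homologyMap (CohCx.cechRefine P f) p).hom x) = e' P p x := by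
  have h : CechEdge.IsEdge J Y' fun P p => (e P p).comp (HomologicalComplex.homologyMap (CohCx.cechRefine P f) p).hom :=
    { cover := he'.cover
      zero := fun P s => (congrArg (e P 0) (refine_toCech f P s)).trans (he.zero P s)
      natural := fun P Q φ p x => (congrArg (e Q p) (ConcreteCategory.congr_hom
        ((Functor.whiskerRight (refineNT f) (HomologicalComplex.homologyFunctor AddCommGrpCat.{u}
          (ComplexShape.up ℕ) p)).naturality φ) x)).trans (he.natural P Q φ p _)
      delta := fun S hS hC p x => (congrArg (e S.X₁ (p + 1)) (ConcreteCategory.congr_hom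
        (HomologicalComplex.HomologySequence.δ_naturality (S.mapNatTrans (refineNT f)) hC
          ((SSExist.isEffaceable_cechF Y).exact S hS) p (p + 1) rfl) x)).trans
        (he.delta S hS ((SSExist.isEffaceable_cechF Y).exact S hS) p _) }
  exact DFunLike.congr_fun (congrFun (congrFun (edge_unique h he') P) p) x

end Groth.Agent.CechEdgeLib
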